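import Cfsg.Agent.H90.G2Four.ExtTables
import Cfsg.Agent.Compute.J2.Facts
import Cfsg.Agent.Golay.Suborbit

/-!
A group of order `|G₂(4)|` acting on 416 points by the tabulated permutations has a maximal point
stabiliser isomorphic to `J₂`, in which every two-point stabiliser is maximal.
-/

set_option autoImplicit false

namespace Cfsg.Agent.H90.G2Four.Ext

open Cfsg.Agent.Compute

attribute [local irreducible] getP packP agreeN runN code idCode den okCode stabCodes stabWords labMain
  labMid labSmall embCode embInvCode transWords pathsMain pathsMid pathsSmall subMidWords subSmallWords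
  rootsMain rootsMid rootsSmall J2.quoPrim labF inOrb

theorem nth_zip {α β : Type} (a : α) (b : β) : ∀ (l : List α) (m : List β) (i : ℕ),
    i < l.length → i < m.length → (nth a l i, nth b m i) ∈ List.zip l m := by
  intro l
  induction l with
  | nil => intro m i h; simp at h
  | cons x l ih =>
    intro m i h h'
    cases m with
    | nil => simp at h'
    | cons y m =>
      cases i with
      | zero => exact List.mem_cons_self
      | succ i => exact List.mem_cons_of_mem _ (ih m i (by simpa using h) (by simpa using h'))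

theorem stab_facts {j : ℕ} (hj : j < 4) : PermOK 9 416 (nth idCode stabCodes j) ∧
    agreeN [nth idCode stabCodes j] ((nth [] stabWords j).map code) = true ∧
    runN [nth idCode stabCodes j] 0 = 0 := by
  have hm := nth_zip idCode [] stabCodes stabWords j (by rw [stab_length.1]; exact hj) (by rw [stab_length.2]; exact hj)
  have h := List.all_eq_true.1 check_stab _ hm
  simp only [Bool.and_eq_true, Nat.beq_eq] at h
  exact ⟨(okCode_spec h.1.1).1, h.1.2, h.2⟩

theorem quo_facts {j : ℕ} (hj : j < 4) : J2.quoSound.ok (nth 0 J2.quoPrim j) ∧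
    ∀ i, i < 100 → getP 9 (nth idCode stabCodes j) (getP 9 embCode i) =
      getP 9 embCode (getP 7 (nth 0 J2.quoPrim j) i) := by
  have hm := nth_zip idCode 0 stabCodes J2.quoPrim j (by rw [stab_length.1]; exact hj) (by rw [quoPrim_length]; exact hj)
  have h := List.all_eq_true.1 check_quo _ hm
  simp only [Bool.and_eq_true, Nat.beq_eq, allN_iff] at h
  exact ⟨(J2.quoSound.okInv_sound h.1).1, h.2⟩

theorem quoPrim_index {a : ℕ} (ha : a ∈ J2.quoPrim) : ∃ j, j < 4 ∧ nth 0 J2.quoPrim j = a := by
  obtain ⟨j, hj, rfl⟩ := List.mem_iff_getElem.1 ha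
  exact ⟨j, quoPrim_length ▸ hj, nth_eq_getElem _ _ _ hj⟩

theorem nth_of_le {α : Type} (d : α) : ∀ (l : List α) (i : ℕ), l.length ≤ i → nth d l i = d := by
  intro l
  induction l with
  | nil => intro i _; rfl
  | cons a t ih =>
    intro i hi
    cases i with
    | zero => simp at hi
    | succ i => exact ih i (by simpa using hi)

theorem stabWord_flatten (l : List (List ℕ)) : stabWord l.flatten = l.flatMap stabWord := by
  unfold stabWord
  rw [List.map_flatten, List.flatMap_def]

variable {G : Type*} [Group G] [Finite G]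

/-- Transfer of maximality along an isomorphism of the ambient groups. -/
theorem isCoatom_map_equiv {A B : Type*} [Group A] [Group B] (e : A ≃* B) {K : Subgroup A}
    (h : IsCoatom K) : IsCoatom (K.map e.toMonoidHom) :=
  (OrderIso.isCoatom_iff e.mapSubgroup K).2 h

/-- Maximality of a stabiliser from a table of labels and paths. -/
theorem coatom_tables [MulAction G (Fin 416)] (O : ℕ → Bool) (k tab : ℕ) (roots : List ℕ)
    (gens : List (List ℕ)) (paths : List (List ℕ)) (n : Fin (k + 1) → ℕ) (x : Fin 416)
    (horb : ∀ i : Fin 416, i ∈ MulAction.orbit G x ↔ O i = true)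
    (hlab : labF k tab x = 0) (h0 : n 0 = 1)
    (hel : ∀ l : List (List ℕ), (∀ j ∈ l, j ∈ gens ∨ j = []) → ∃ g ∈ MulAction.stabilizer G x,
      ∀ i : Fin 416, ((g • i : Fin 416) : ℕ) = runN (l.flatMap stabWord) i)
    (hp : pathOK k O tab roots gens paths = true)
    (hc : ∀ j, (Finset.univ.filter fun i : Fin 416 => O i = true ∧ labF k tab i = j).card = n j)
    (hroots : ∀ r ∈ roots, r < 416)
    (hN : 1 < ∑ i, n i)
    (hS : ∀ S : Finset (Fin (k + 1)), 0 ∈ S → (∑ i ∈ S, n i) ∣ ∑ i, n i →
      S = {0} ∨ S = Finset.univ) :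
    IsCoatom (MulAction.stabilizer G x) := by
  classical
  refine Golay.isCoatom_stabilizer_of_labels (fun i : Fin 416 => labF k tab i) n hlab h0
    (fun j => ?_) (fun y hy z hz e => ?_) hN hS
  · rw [← hc j, ← Set.ncard_coe_finset]
    congr 1
    ext i
    simp [horb i]
  · have key : ∀ p : Fin 416, O p = true → ∃ g ∈ MulAction.stabilizer G x,
        ∀ r : Fin 416, (r : ℕ) = nth 0 roots (labF k tab p) → g • r = p := by
      intro p hp'
      have h := (allN_iff _ _).1 hp p p.2
      simp only [hp', Bool.not_true, Bool.false_or, Nat.beq_eq] at h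
      obtain ⟨g, hg, hgi⟩ := hel ((nth [] paths p).map (nth [] gens)) (fun j hj => by
        obtain ⟨i, -, rfl⟩ := List.mem_map.1 hj
        by_cases hi : i < gens.length
        · exact Or.inl (nth_mem _ _ _ hi)
        · exact Or.inr (nth_of_le _ _ _ (not_lt.1 hi)))
      refine ⟨g, hg, fun r hr => Fin.ext ?_⟩
      rw [hgi r, hr, h]
    obtain ⟨g1, hg1, h1⟩ := key y ((horb y).1 hy)
    obtain ⟨g2, hg2, h2⟩ := key z ((horb z).1 hz)
    have hr : nth 0 roots (labF k tab y) < 416 := by
      by_cases hi : (labF k tab y : ℕ) < roots.length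
      · exact hroots _ (nth_mem _ _ _ hi)
      · rw [nth_of_le _ _ _ (not_lt.1 hi)]
        norm_num
    refine ⟨g2 * g1⁻¹, mul_mem hg2 (inv_mem hg1), ?_⟩
    have a1 := h1 ⟨_, hr⟩ rfl
    have a2 := h2 ⟨_, hr⟩ (by
      show nth 0 roots (labF k tab y) = nth 0 roots (labF k tab z)
      rw [show labF k tab y = labF k tab z from e])
    rw [mul_smul, ← a1, inv_smul_smul, a2]

theorem main (ρ : G →* Equiv.Perm (Fin 416)) (hcard : Nat.card G = 251596800)
    (hword : ∀ l : List (ℕ × K4), (∀ a ∈ l.map code, PermOK 9 416 a) ∧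
      ∃ g, ρ g = ((l.map code).map den).prod) :
    ∃ H : Subgroup G, IsCoatom H ∧ Cfsg.Spor.IsoJ2 H ∧
      ∀ x, x ∉ H → IsCoatom ((H ⊓ H.map (MulAut.conj x).toMonoidHom).subgroupOf H) := by
  classical
  letI : MulAction G (Fin 416) := MulAction.compHom (Fin 416) ρ
  have hsmul : ∀ (g : G) (i : Fin 416), g • i = ρ g i := fun _ _ => rfl
  -- four elements fixing the base point
  have hgen : ∀ j : Fin 4, ∃ g : G, ∀ i : Fin 416, ((g • i : Fin 416) : ℕ) = getP 9 (nth idCode stabCodes j) i := by
    intro j
    obtain ⟨hok, hg⟩ := hword (nth [] stabWords j)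
    obtain ⟨g, hg⟩ := hg
    refine ⟨g, fun i => ?_⟩
    rw [hsmul, hg, ← prod_eq_of_agreeN (l := [nth idCode stabCodes j])
      (fun a ha => by rw [List.mem_singleton.1 ha]; exact (stab_facts j.2).1) hok (stab_facts j.2).2.1]
    simp only [List.map_cons, List.map_nil, List.prod_cons, List.prod_nil, mul_one]
    unfold den; exact permDen_apply (stab_facts j.2).1 i
  choose s hs using hgen
  let H : Subgroup G := Subgroup.closure (Set.range s)
  let x0 : Fin 416 := ⟨0, by norm_num⟩
  -- products of the four
  have hindex : ∀ j : ℕ, ∃ g ∈ H, ∀ i : Fin 416, ((g • i : Fin 416) : ℕ) = getP 9 (nth idCode stabCodes j) i := by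
    intro j
    by_cases hj : j < 4
    · exact ⟨s ⟨j, hj⟩, Subgroup.subset_closure ⟨_, rfl⟩, hs _⟩
    · refine ⟨1, one_mem _, fun i => ?_⟩
      rw [nth_of_le _ _ _ (by rw [stab_length.1]; omega), one_smul]
      have hid := prod_eq_of_agreeN (l := [idCode]) (m := [])
        (fun a ha => by rw [List.mem_singleton.1 ha]; exact (okCode_spec check_id).1)
        (fun a ha => absurd ha List.not_mem_nil) check_id_agree
      simp only [List.map_cons, List.map_nil, List.prod_cons, List.prod_nil, mul_one] at hid
      rw [← permDen_apply (okCode_spec check_id).1 i, show permDen 9 416 idCode = den idCode from by unfold den; rfl, hid]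
      rfl
  have hwordH : ∀ w : List ℕ, ∃ g ∈ H, ∀ i : Fin 416, ((g • i : Fin 416) : ℕ) = runN (stabWord w) i := by
    intro w
    induction w with
    | nil => exact ⟨1, one_mem _, fun i => by rw [one_smul]; unfold runN; rfl⟩
    | cons j w ih =>
      obtain ⟨a, ha, ha'⟩ := hindex j
      obtain ⟨b, hb, hb'⟩ := ih
      refine ⟨a * b, mul_mem ha hb, fun i => ?_⟩
      rw [mul_smul, ha', hb']
      unfold runN; rfl
  have hrun : ∀ (w v : List ℕ) (i : ℕ), runN (w ++ v) i = runN w (runN v i) := by
    intro w v i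
    induction w with
    | nil => unfold runN; rfl
    | cons a w ih =>
      have e1 : ∀ (l : List ℕ), runN (a :: l) i = getP 9 a (runN l i) := fun l => by unfold runN; rfl
      have e2 : runN (a :: w) (runN v i) = getP 9 a (runN w (runN v i)) := by unfold runN; rfl
      rw [List.cons_append, e1, ih, e2]
  -- labels are invariant
  have hinv : ∀ h ∈ H, ∀ i : Fin 416, getP 3 labMain ((h • i : Fin 416) : ℕ) = getP 3 labMain (i : ℕ) := by
    intro h hh
    induction hh using Subgroup.closure_induction with
    | mem g hg =>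
      obtain ⟨j, rfl⟩ := hg
      intro i
      rw [hs]
      have h := List.all_eq_true.1 check_labMain _ (nth_mem idCode stabCodes j (by rw [stab_length.1]; exact j.2))
      exact Nat.eq_of_beq_eq_true ((allN_iff _ _).1 h i i.2)
    | one => intro i; rw [one_smul]
    | mul a b _ _ ha hb => intro i; rw [mul_smul, ha, hb]
    | inv a _ ha =>
      intro i
      have := ha (a⁻¹ • i)
      rw [smul_inv_smul] at this
      exact this.symm
  have hin : ∀ c, ∀ h ∈ H, ∀ i : Fin 416, inOrb c ((h • i : Fin 416) : ℕ) = inOrb c (i : ℕ) := by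
    intro c h hh i
    unfold inOrb
    rw [hinv h hh i]
  -- reaching from the roots
  have hreach : ∀ p : Fin 416, ∃ h ∈ H, ∀ r : Fin 416,
      (r : ℕ) = nth 0 rootsMain (labF 2 labMain p) → h • r = p := by
    intro p
    have h := (allN_iff _ _).1 check_pathMain p p.2
    simp only [Bool.not_true, Bool.false_or, Nat.beq_eq] at h
    obtain ⟨g, hg, hg'⟩ := hwordH (((nth [] pathsMain p).map (nth [] singles)).flatten)
    refine ⟨g, hg, fun r hr => Fin.ext ?_⟩
    rw [hg', hr]
    rw [stabWord_flatten]
    exact h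
  have hlabF : ∀ {c : ℕ} {p : Fin 416}, c < 3 → inOrb c p = true → (labF 2 labMain p : ℕ) = c := by
    intro c p hc hp
    unfold inOrb at hp
    unfold labF
    rw [Nat.eq_of_beq_eq_true hp, Fin.val_ofNat]
    omega
  -- the stabiliser
  have hH0 : H ≤ MulAction.stabilizer G x0 := by
    refine (Subgroup.closure_le _).2 ?_
    rintro _ ⟨j, rfl⟩
    refine MulAction.mem_stabilizer_iff.2 (Fin.ext ?_)
    rw [hs]
    have := (stab_facts j.2).2.2
    unfold runN at this
    exact this
  have htrans : ∀ i : Fin 416, ∃ g : G, g • x0 = i := by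
    intro i
    obtain ⟨hok, g, hg⟩ := hword (nth [] transWords i)
    refine ⟨g, Fin.ext ?_⟩
    have h := Nat.eq_of_beq_eq_true ((allN_iff _ _).1 check_trans i i.2)
    have := runN_spec _ hok x0
    rw [hsmul, hg, ← this]
    exact h
  have hidx : (MulAction.stabilizer G x0).index = 416 := by
    rw [MulAction.index_stabilizer, show MulAction.orbit G x0 = Set.univ from
      Set.eq_univ_of_forall fun i => htrans i, Set.ncard_univ, Nat.card_fin]
  have hstab : Nat.card (MulAction.stabilizer G x0) = 604800 := by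
    have h := (MulAction.stabilizer G x0).card_mul_index
    rw [hidx, hcard] at h
    omega
  -- the action on the suborbit of length 100
  have hemb : (∀ i < 100, inOrb 2 (getP 9 embCode i) = true ∧ getP 9 embCode i < 416 ∧
      getP 9 embInvCode (getP 9 embCode i) = i) ∧ ∀ p < 416, inOrb 2 p = true →
      getP 9 embInvCode p < 100 ∧ getP 9 embCode (getP 9 embInvCode p) = p := by
    have h := check_emb
    simp only [Bool.and_eq_true, allN_iff, Nat.ble_eq, Nat.beq_eq, Bool.or_eq_true, Bool.not_eq_true',
      Nat.add_one_le_iff, and_assoc, decide_eq_true_iff] at h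
    exact ⟨h.1, fun p hp hp2 => (h.2 p hp).resolve_left (by simp [hp2])⟩
  let em : Fin 100 → Fin 416 := fun i => ⟨getP 9 embCode i, (hemb.1 i i.2).2.1⟩
  have hout : ∀ (h : H) (i : Fin 100), inOrb 2 (((h : G) • em i : Fin 416) : ℕ) = true := fun h i => by
    rw [hin 2 h h.2]; exact (hemb.1 i i.2).1
  let pf : H → Fin 100 → Fin 100 := fun h i =>
    ⟨getP 9 embInvCode (((h : G) • em i : Fin 416) : ℕ), (hemb.2 _ (Fin.isLt _) (hout h i)).1⟩
  have hpf : ∀ (h : H) (i : Fin 100), em (pf h i) = (h : G) • em i := fun h i =>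
    Fin.ext (hemb.2 _ (Fin.isLt _) (hout h i)).2
  have hinj : Function.Injective em := fun i j e => by
    have := congrArg (fun p : Fin 416 => getP 9 embInvCode p) e
    exact Fin.ext (by rw [← (hemb.1 i i.2).2.2, ← (hemb.1 j j.2).2.2]; exact this)
  letI : MulAction H (Fin 100) :=
    { smul := fun h i => pf h i
      one_smul := fun i => hinj ((hpf 1 i).trans (one_smul G _))
      mul_smul := fun a b i => hinj (by
        show em (pf (a * b) i) = em (pf a (pf b i))
        rw [hpf, hpf, hpf, Subgroup.coe_mul, mul_smul]) }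
  let ψ : H →* Equiv.Perm (Fin 100) := MulAction.toPermHom H (Fin 100)
  have hψ : ∀ j : Fin 4, ψ ⟨s j, Subgroup.subset_closure ⟨j, rfl⟩⟩ = J2.quoSound.den (nth 0 J2.quoPrim j) := by
    intro j
    obtain ⟨hok, hq⟩ := quo_facts j.2
    refine Equiv.ext fun i => hinj (Fin.ext ?_)
    show (em (pf _ i) : ℕ) = getP 9 embCode _
    rw [hpf, hs, show (J2.quoSound.den (nth 0 J2.quoPrim j) i : ℕ) = getP 7 (nth 0 J2.quoPrim j) i from
      permDen_apply hok i]
    exact hq i i.2
  have hle : J2.quoGrp ≤ ψ.range := by
    rw [J2.quoGrp_eq, Subgroup.closure_le]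
    rintro _ ⟨a, ha, rfl⟩
    obtain ⟨j, hj, rfl⟩ := quoPrim_index ha
    exact ⟨_, hψ ⟨j, hj⟩⟩
  have hcardH : Nat.card H = 604800 := by
    refine le_antisymm (hstab ▸ Subgroup.card_le_of_le hH0) ?_
    rw [← J2.card_quoGrp]
    exact (Subgroup.card_le_of_le hle).trans (Nat.card_le_card_of_surjective _ ψ.rangeRestrict_surjective)
  have hrange : ψ.range = J2.quoGrp := by
    refine (Subgroup.eq_of_le_of_card_ge hle ?_).symm
    rw [J2.card_quoGrp, ← hcardH]
    exact Nat.card_le_card_of_surjective _ ψ.rangeRestrict_surjective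
  have hbij : Function.Bijective ψ.rangeRestrict :=
    (Nat.bijective_iff_surjective_and_card _).2 ⟨ψ.rangeRestrict_surjective, by rw [hrange, J2.card_quoGrp, hcardH]⟩
  have hHeq : H = MulAction.stabilizer G x0 :=
    Subgroup.eq_of_le_of_card_ge hH0 (by rw [hstab, hcardH])
  refine ⟨H, ?_, ⟨((MulEquiv.ofBijective _ hbij).trans (MulEquiv.subgroupCongr hrange)).trans J2.equivJ2.symm⟩, ?_⟩
  · rw [hHeq]
    refine coatom_tables (fun _ => true) 2 labMain rootsMain singles pathsMain ![1, 315, 100] x0
      (fun i => ⟨fun _ => rfl, fun _ => htrans i⟩) root_labels.1 rfl (fun l _ => ?_) check_pathMain count_main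
      (fun r hr => ?_) (by decide) union_main
    · obtain ⟨g, hg, hg'⟩ := hwordH l.flatten
      refine ⟨g, hH0 hg, fun i => ?_⟩
      rw [hg', stabWord_flatten]
    · exact Nat.le_of_ble_eq_true (List.all_eq_true.1 check_roots r (by simp [hr]))
  · intro x hx
    let p : Fin 416 := x • x0
    have hint : (H ⊓ H.map (MulAut.conj x).toMonoidHom).subgroupOf H = MulAction.stabilizer H p := by
      ext h
      rw [Subgroup.mem_subgroupOf, Subgroup.mem_inf, Subgroup.mem_map_equiv, MulAction.mem_stabilizer_iff,
        MulAut.conj_symm_apply]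
      have e : x⁻¹ * (h : G) * x ∈ H ↔ (h : G) • p = p := by
        rw [SetLike.ext_iff.1 hHeq, MulAction.mem_stabilizer_iff, mul_smul, mul_smul, inv_smul_eq_iff]
      exact ⟨fun hh => e.1 hh.2, fun hh => ⟨h.2, e.2 hh⟩⟩
    rw [hint]
    have hp0 : inOrb 0 (p : ℕ) = false := by
      by_contra hc
      rw [Bool.not_eq_false] at hc
      obtain ⟨g, hg, hg'⟩ := hreach p
      have := hg' x0 (by rw [hlabF (by norm_num) hc]; exact root_labels.2.1.symm)
      have hg0 : g • x0 = x0 := hH0 hg
      rw [hg0] at this
      exact hx (hHeq ▸ (this.symm : x • x0 = x0))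
    have hsub : ∀ (gens : List (List ℕ)) (y : Fin 416),
        ((gens.all fun l => Nat.beq (runN (stabWord l) y) y) = true) →
        ∀ l : List (List ℕ), (∀ j ∈ l, j ∈ gens ∨ j = []) → ∃ g ∈ MulAction.stabilizer H y,
          ∀ i : Fin 416, ((g • i : Fin 416) : ℕ) = runN (l.flatMap stabWord) i := by
      intro gens y hy l hl
      · obtain ⟨g, hg, hg'⟩ := hwordH l.flatten
        refine ⟨⟨g, hg⟩, MulAction.mem_stabilizer_iff.2 (Fin.ext ?_), fun i => ?_⟩
        · show ((g • y : Fin 416) : ℕ) = y
          rw [hg']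
          clear hg hg' g
          induction l with
          | nil => unfold runN stabWord; rfl
          | cons j l ih =>
            rw [List.flatten_cons, stabWord, List.map_append, hrun]
            rw [show runN (List.map (nth idCode stabCodes) l.flatten) (y : ℕ) = y from
              ih fun a ha => hl a (List.mem_cons_of_mem _ ha)]
            rcases hl j List.mem_cons_self with hj | rfl
            · exact Nat.eq_of_beq_eq_true (List.all_eq_true.1 hy j hj)
            · unfold runN; rfl
        · show ((g • i : Fin 416) : ℕ) = _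
          rw [hg', stabWord_flatten]
    have horbit : ∀ {c : ℕ} {y : Fin 416}, c < 3 → inOrb c (y : ℕ) = true → (y : ℕ) = nth 0 rootsMain c →
        ∀ i : Fin 416, i ∈ MulAction.orbit H y ↔ inOrb c (i : ℕ) = true := by
      intro c y hc hy hyr i
      constructor
      · rintro ⟨h, rfl⟩
        show inOrb c (((h : G) • y : Fin 416) : ℕ) = true
        rw [hin c h h.2]; exact hy
      · intro hi
        obtain ⟨g, hg, hg'⟩ := hreach i
        exact ⟨⟨g, hg⟩, hg' y (by rw [hlabF hc hi, hyr])⟩
    have hmove : ∀ (y : Fin 416), p ∈ MulAction.orbit H y → IsCoatom (MulAction.stabilizer H y) →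
        IsCoatom (MulAction.stabilizer H p) := by
      rintro y ⟨h, hh⟩ hy
      rw [← hh, MulAction.stabilizer_smul_eq_stabilizer_map_conj]
      exact isCoatom_map_equiv (MulAut.conj h) hy
    have hrest : inOrb 1 (p : ℕ) = true ∨ inOrb 2 (p : ℕ) = true := by
      have h := (allN_iff _ _).1 check_labRange p p.2
      simpa [hp0] using h
    rcases hrest with h1 | h2
    · let y : Fin 416 := ⟨nth 0 rootsMid 0, root_labels.2.2.2.2.2.2.1⟩
      have ho := horbit (c := 1) (y := y) (by norm_num) root_labels.2.2.2.2.1 root_labels.2.2.1.symm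
      refine hmove y ((ho p).2 h1) (coatom_tables (inOrb 1) 5 labMid rootsMid subMidWords pathsMid
        ![1, 10, 32, 32, 80, 160] y ho root_labels.2.2.2.2.2.2.2.2.1 rfl
        (hsub subMidWords y check_subMid) check_pathMid count_mid (fun r hr => ?_) (by decide) union_mid)
      exact Nat.le_of_ble_eq_true (List.all_eq_true.1 check_roots r (by simp [hr]))
    · let y : Fin 416 := ⟨nth 0 rootsSmall 0, root_labels.2.2.2.2.2.2.2.1⟩
      have ho := horbit (c := 2) (y := y) (by norm_num) root_labels.2.2.2.2.2.1 root_labels.2.2.2.1.symm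
      refine hmove y ((ho p).2 h2) (coatom_tables (inOrb 2) 2 labSmall rootsSmall subSmallWords pathsSmall
        ![1, 36, 63] y ho root_labels.2.2.2.2.2.2.2.2.2 rfl
        (hsub subSmallWords y check_subSmall) check_pathSmall count_small (fun r hr => ?_) (by decide) union_small)
      exact Nat.le_of_ble_eq_true (List.all_eq_true.1 check_roots r (by simp [hr]))

end Cfsg.Agent.H90.G2Four.Ext
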