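import Cfsg.Agent.H90.G2Four.ExtPerm

/-!
The second relations hold on the 416 cosets, for three of the first roots.
-/

set_option autoImplicit false
set_option Elab.async false

namespace Cfsg.Agent.H90.G2Four.Ext

theorem check_rel2B : ((List.range' 3 3).all fun r => (List.range 12).all fun s => rel2 r s) = true := by
  decide +kernel

end Cfsg.Agent.H90.G2Four.Ext
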