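import Mathlib
import Cfsg.Prelude.Def_Steinberg
import Cfsg.Prelude.Def_ChevG2

/-!
The six-dimensional module of `G₂` over the field of four elements, given on root elements.

Coordinates: the weights `2a+b, a+b, a, -a, -(a+b), -(2a+b)` (roots 9, 8, 7, 4, 3, 2).
-/

set_option autoImplicit false
set_option Elab.async false
set_option maxRecDepth 100000

namespace Cfsg.Agent.H90.G2Four

open Cfsg.Lie

/-- The field with four elements. -/
inductive K4 | o | i | w | v
  deriving DecidableEq

namespace K4

instance : Fintype K4 := ⟨{o, i, w, v}, fun x => by cases x <;> decide⟩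

def add : K4 → K4 → K4
  | o, x => x
  | x, o => x
  | i, i => o | i, w => v | i, v => w
  | w, i => v | w, w => o | w, v => i
  | v, i => w | v, w => i | v, v => o

def mul : K4 → K4 → K4
  | o, _ => o
  | _, o => o
  | i, x => x
  | x, i => x
  | w, w => v | w, v => i | v, w => i | v, v => w

def inv : K4 → K4
  | o => o | i => i | w => v | v => w

instance : Zero K4 := ⟨o⟩
instance : One K4 := ⟨i⟩
instance : Add K4 := ⟨add⟩
instance : Mul K4 := ⟨mul⟩
instance : Neg K4 := ⟨id⟩
instance : Inv K4 := ⟨inv⟩

instance : Field K4 where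
  add_assoc := by decide
  zero_add := by decide
  add_zero := by decide
  add_comm := by decide
  neg_add_cancel := by decide
  mul_assoc := by decide
  one_mul := by decide
  mul_one := by decide
  mul_comm := by decide
  zero_mul := by decide
  mul_zero := by decide
  left_distrib := by decide
  right_distrib := by decide
  exists_pair_ne := ⟨o, i, by decide⟩
  mul_inv_cancel := by decide
  inv_zero := rfl
  nsmul := nsmulRec
  zsmul := zsmulRec
  nnqsmul := _
  nnqsmul_def := fun _ _ => rfl
  qsmul := _
  qsmul_def := fun _ _ => rfl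

theorem card_eq : Fintype.card K4 = 4 := rfl

theorem add_self (x : K4) : x + x = 0 := by revert x; decide

end K4

/-- The module. -/
abbrev V := K4 × K4 × K4 × K4 × K4 × K4

/-- A root element. -/
def act (r : ℕ) (t : K4) : V → V
  | (a, b, c, d, e, f) =>
    match r with
    | 7 => (a + t * b, b, c + t * t * d, d, e + t * f, f)
    | 4 => (a, b + t * a, c, d + t * t * c, e, f + t * e)
    | 8 => (a + t * c, b + t * t * e, c, d + t * f, e, f)
    | 3 => (a, b, c + t * a, d, e + t * t * b, f + t * d)
    | 9 => (a + t * t * f, b + t * d, c + t * e, d, e, f)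
    | 2 => (a, b, c, d + t * b, e + t * c, f + t * t * a)
    | 6 => (a, b + t * c, c, d + t * e, e, f)
    | 5 => (a, b, c + t * b, d, e + t * d, f)
    | 10 => (a + t * d, b, c + t * f, d, e, f)
    | 1 => (a, b, c, d + t * a, e, f + t * c)
    | 11 => (a + t * e, b + t * f, c, d, e, f)
    | 0 => (a, b, c, d, e + t * a, f + t * b)
    | _ => (a, b, c, d, e, f)

theorem act_add (r : ℕ) (t : K4) (x y : V) : act r t (x + y) = act r t x + act r t y := by
  obtain ⟨a, b, c, d, e, f⟩ := x
  obtain ⟨a', b', c', d', e', f'⟩ := y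
  unfold act
  simp only [Prod.mk_add_mk]
  split <;> (refine Prod.ext ?_ (Prod.ext ?_ (Prod.ext ?_ (Prod.ext ?_ (Prod.ext ?_ ?_)))) <;>
    first | rfl | (simp only [Prod.mk_add_mk]; ring))

theorem cancel (x y : K4) : x + y + y = x := by rw [add_assoc, K4.add_self, add_zero]

theorem act_act (r : ℕ) (t : K4) (x : V) : act r t (act r t x) = x := by
  obtain ⟨a, b, c, d, e, f⟩ := x
  rcases r with _|_|_|_|_|_|_|_|_|_|_|_|_ <;> simp [act, cancel]

/-- A root element as an automorphism. -/
def gen (r : ℕ) (t : K4) : MulAut (Multiplicative V) where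
  toFun x := Multiplicative.ofAdd (act r t x.toAdd)
  invFun x := Multiplicative.ofAdd (act r t x.toAdd)
  left_inv x := act_act r t x.toAdd
  right_inv x := act_act r t x.toAdd
  map_mul' x y := act_add r t x.toAdd y.toAdd

/-- Applying a word of root elements. -/
def run (l : List (ℕ × K4)) (x : V) : V := l.foldr (fun p y => act p.1 p.2 y) x

theorem prod_gen (l : List (ℕ × K4)) (x : V) :
    (l.map fun p => gen p.1 p.2).prod (Multiplicative.ofAdd x) = Multiplicative.ofAdd (run l x) := by
  induction l with
  | nil => rfl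
  | cons p l ih => rw [List.map_cons, List.prod_cons, MulAut.mul_apply, ih]; rfl

/-- The vectors with one nonzero coordinate. -/
def single : List V :=
  [K4.i, K4.w, K4.v].flatMap fun z =>
    [(z, 0, 0, 0, 0, 0), (0, z, 0, 0, 0, 0), (0, 0, z, 0, 0, 0),
     (0, 0, 0, z, 0, 0), (0, 0, 0, 0, z, 0), (0, 0, 0, 0, 0, z)]

/-- Whether two words act equally on these vectors. -/
def agree (l m : List (ℕ × K4)) : Bool := single.all fun x => decide (run l x = run m x)

theorem run_add (l : List (ℕ × K4)) (x y : V) : run l (x + y) = run l x + run l y := by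
  induction l with
  | nil => rfl
  | cons p l ih => simp only [run, List.foldr_cons] at ih ⊢; rw [ih, act_add]

theorem run_zero (l : List (ℕ × K4)) : run l 0 = 0 := by
  have h := run_add l 0 0
  rw [add_zero] at h
  exact left_eq_add.1 h

theorem prod_eq_of_agree {l m : List (ℕ × K4)} (h : agree l m = true) :
    (l.map fun p => gen p.1 p.2).prod = (m.map fun p => gen p.1 p.2).prod := by
  have hs : ∀ x ∈ single, run l x = run m x := fun x hx => of_decide_eq_true (List.all_eq_true.1 h x hx)
  have h1 : ∀ x : V, x = 0 ∨ x ∈ single → run l x = run m x := by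
    rintro x (rfl | hx)
    · rw [run_zero, run_zero]
    · exact hs x hx
  have hc : ∀ z : K4, ((z, 0, 0, 0, 0, 0) : V) = 0 ∨ ((z, 0, 0, 0, 0, 0) : V) ∈ single := fun z => by cases z <;> first | exact Or.inl rfl | exact Or.inr (by simp [single])
  have hc2 : ∀ z : K4, ((0, z, 0, 0, 0, 0) : V) = 0 ∨ ((0, z, 0, 0, 0, 0) : V) ∈ single := fun z => by cases z <;> first | exact Or.inl rfl | exact Or.inr (by simp [single])
  have hc3 : ∀ z : K4, ((0, 0, z, 0, 0, 0) : V) = 0 ∨ ((0, 0, z, 0, 0, 0) : V) ∈ single := fun z => by cases z <;> first | exact Or.inl rfl | exact Or.inr (by simp [single])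
  have hc4 : ∀ z : K4, ((0, 0, 0, z, 0, 0) : V) = 0 ∨ ((0, 0, 0, z, 0, 0) : V) ∈ single := fun z => by cases z <;> first | exact Or.inl rfl | exact Or.inr (by simp [single])
  have hc5 : ∀ z : K4, ((0, 0, 0, 0, z, 0) : V) = 0 ∨ ((0, 0, 0, 0, z, 0) : V) ∈ single := fun z => by cases z <;> first | exact Or.inl rfl | exact Or.inr (by simp [single])
  have hc6 : ∀ z : K4, ((0, 0, 0, 0, 0, z) : V) = 0 ∨ ((0, 0, 0, 0, 0, z) : V) ∈ single := fun z => by
    cases z <;> first | exact Or.inl rfl | exact Or.inr (by simp [single])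
  refine MulEquiv.ext fun x => ?_
  rw [← ofAdd_toAdd x, prod_gen, prod_gen]
  congr 1
  obtain ⟨a, b, c, d, e, f⟩ := x.toAdd
  have hx : ((a, b, c, d, e, f) : V) = (a, 0, 0, 0, 0, 0) + (0, b, 0, 0, 0, 0) + (0, 0, c, 0, 0, 0) +
      (0, 0, 0, d, 0, 0) + (0, 0, 0, 0, e, 0) + (0, 0, 0, 0, 0, f) := by
    simp only [Prod.mk_add_mk, add_zero, zero_add]
  simp only [hx, run_add, h1 _ (hc a), h1 _ (hc2 b), h1 _ (hc3 c), h1 _ (hc4 d), h1 _ (hc5 e),
    h1 _ (hc6 f)]

/-- The first relation. -/
theorem check1 : ((List.range 12).all fun r => [K4.o, K4.i, K4.w, K4.v].all fun t =>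
    [K4.o, K4.i, K4.w, K4.v].all fun u => agree [(r, t), (r, u)] [(r, t + u)]) = true := by
  decide +kernel

/-- The second relation for the first root. -/
def relRow (r : ℕ) : Bool :=
  (List.range 12).all fun s =>
    decide (s = r) || decide (s = chevG2.neg r) ||
    [K4.o, K4.i, K4.w, K4.v].all fun t => [K4.o, K4.i, K4.w, K4.v].all fun u =>
      agree [(s, u), (r, t), (s, u), (r, t)] (chevG2.commWord K4 r s t u)

theorem check2a : ([0, 1].all relRow) = true := by decide +kernel

theorem check2b : ([2, 3].all relRow) = true := by decide +kernel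

theorem check2c : ([4, 5].all relRow) = true := by decide +kernel

theorem check2d : ([6, 7].all relRow) = true := by decide +kernel

theorem check2e : ([8, 9].all relRow) = true := by decide +kernel

theorem check2f : ([10, 11].all relRow) = true := by decide +kernel

/-- The second relation. -/
theorem check2 : ((List.range 12).all fun r => (List.range 12).all fun s =>
    decide (s = r) || decide (s = chevG2.neg r) ||
    [K4.o, K4.i, K4.w, K4.v].all fun t => [K4.o, K4.i, K4.w, K4.v].all fun u =>
      agree [(s, u), (r, t), (s, u), (r, t)] (chevG2.commWord K4 r s t u)) = true := by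
  show (List.range 12).all relRow = true
  rw [show List.range 12 = [0, 1] ++ [2, 3] ++ [4, 5] ++ [6, 7] ++ [8, 9] ++ [10, 11] from rfl]
  simp only [List.all_append, check2a, check2b, check2c, check2d, check2e, check2f, Bool.and_self]

end Cfsg.Agent.H90.G2Four
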