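import Mathlib
import Cfsg.Agent.H90.G2Four.Model
import Cfsg.Agent.H38.St.Groups
import Cfsg.Agent.S1059
import Cfsg.Agent.S1078

/-!
`V^N ⋊ G₂(4)` has the prime graph of `G₂(4)`: the group is transitive on the nonzero vectors, so only
the primes `2`, `3`, `5` fix one, and `2·3`, `2·5` are already element orders of `G₂(4)`.
-/

set_option autoImplicit false
set_option maxRecDepth 100000

namespace Cfsg.Agent.H90.G2Four

open Cfsg.Lie

/-- The third relation. -/
theorem check3 : ((List.range 12).all fun r => [K4.i, K4.w, K4.v].all fun t => [K4.i, K4.w, K4.v].all fun u =>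
    agree (chevG2.hWord r t ++ chevG2.hWord r u) (chevG2.hWord r (t * u))) = true := by
  decide +kernel

/-- The top weight vector. -/
def top : V := (1, 0, 0, 0, 0, 0)

/-- Bringing the first coordinate away from zero. -/
def lift : V → List (ℕ × K4)
  | (a, b, c, d, e, f) =>
    if a ≠ 0 then [] else if b ≠ 0 then [(7, 1)] else if c ≠ 0 then [(8, 1)] else
      if d ≠ 0 then [(10, 1)] else if e ≠ 0 then [(11, 1)] else if f ≠ 0 then [(9, 1)] else []

/-- One step of clearing the other coordinates. -/
def clear (j : ℕ) : V → List (ℕ × K4)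
  | (a, b, c, d, e, f) =>
    match j with
    | 0 => [(4, b * a⁻¹)]
    | 1 => [(3, c * a⁻¹)]
    | 2 => [(1, d * a⁻¹)]
    | 3 => [(0, e * a⁻¹)]
    | 4 => [(2, f * a⁻¹ * (f * a⁻¹))]
    | _ => chevG2.hWord 7 a⁻¹

/-- A word taking a nonzero vector to the top vector. -/
def toTop (x : V) : List (ℕ × K4) :=
  let l0 := lift x
  let l1 := clear 0 (run l0 x) ++ l0
  let l2 := clear 1 (run l1 x) ++ l1
  let l3 := clear 2 (run l2 x) ++ l2
  let l4 := clear 3 (run l3 x) ++ l3
  let l5 := clear 4 (run l4 x) ++ l4
  clear 5 (run l5 x) ++ l5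

/-- The four scalars. -/
def els : List K4 := [K4.o, K4.i, K4.w, K4.v]

theorem checkTop : (els.all fun a => els.all fun b => els.all fun c => els.all fun d => els.all fun e =>
    els.all fun f => decide ((a, b, c, d, e, f) = (0 : V)) ||
      decide (run (toTop (a, b, c, d, e, f)) (a, b, c, d, e, f) = top)) = true := by
  decide +kernel

theorem mem_els (a : K4) : a ∈ els := by cases a <;> simp [els]

theorem run_toTop {x : V} (hx : x ≠ 0) : run (toTop x) x = top := by
  obtain ⟨a, b, c, d, e, f⟩ := x
  have h := List.all_eq_true.1 (List.all_eq_true.1 (List.all_eq_true.1 (List.all_eq_true.1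
    (List.all_eq_true.1 (List.all_eq_true.1 checkTop a (mem_els a)) b (mem_els b)) c (mem_els c))
    d (mem_els d)) e (mem_els e)) f (mem_els f)
  rw [Bool.or_eq_true, decide_eq_true_iff, decide_eq_true_iff] at h
  exact h.resolve_left hx

variable {F : Type*} [Field F] (ε : F ≃+* K4)

/-- Words over `F` read over the concrete field. -/
def wmap (l : List (ℕ × F)) : List (ℕ × K4) := l.map fun p => (p.1, ε p.2)

/-- The automorphism of a word. -/
def wordAut (l : List (ℕ × K4)) : MulAut (Multiplicative V) := (l.map fun p => gen p.1 p.2).prod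

theorem lift_stWord (l : List (ℕ × F)) (hl : ∀ p ∈ l, p.1 < chevG2.nroots) :
    FreeGroup.lift (fun p : Fin chevG2.nroots × F => gen p.1 (ε p.2)) (chevG2.stWord l) =
      wordAut (wmap ε l) := by
  induction l with
  | nil => simp [ChevalleyDatum.stWord, wordAut, wmap]
  | cons p l ih =>
    have hp : p.1 < chevG2.nroots := hl p List.mem_cons_self
    simp only [ChevalleyDatum.stWord, List.map_cons, List.prod_cons, map_mul] at ih ⊢
    rw [ih fun q hq => hl q (List.mem_cons_of_mem _ hq)]
    simp [ChevalleyDatum.stX, hp, wordAut, wmap]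

theorem gen_inv (r : ℕ) (t : K4) : (gen r t)⁻¹ = gen r t := by
  refine inv_eq_of_mul_eq_one_left (MulEquiv.ext fun x => ?_)
  exact act_act r t x.toAdd

theorem comm_lt : ((List.range 12).all fun r => (List.range 12).all fun s =>
    (chevG2.commTerms r s).all fun c => decide (c.1 < 12)) = true := by decide +kernel

theorem neg_lt : ((List.range 12).all fun r => decide (chevG2.neg r < 12)) = true := by decide +kernel

theorem all_range {P : ℕ → Bool} {n r : ℕ} (h : (List.range n).all P = true) (hr : r < n) : P r = true :=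
  List.all_eq_true.1 h r (List.mem_range.2 hr)

theorem rels : ∀ g ∈ chevG2.steinbergRels F,
    FreeGroup.lift (fun p : Fin chevG2.nroots × F => gen p.1 (ε p.2)) g = 1 := by
  have hn : chevG2.nroots = 12 := rfl
  have hX : ∀ r t, r < chevG2.nroots → FreeGroup.lift (fun p : Fin chevG2.nroots × F => gen p.1 (ε p.2))
      (chevG2.stX r t) = gen r (ε t) := fun r t hr => by simp [ChevalleyDatum.stX, hr]
  have hH : ∀ r t, r < chevG2.nroots → FreeGroup.lift (fun p : Fin chevG2.nroots × F => gen p.1 (ε p.2))
      (chevG2.stH r t) = wordAut (chevG2.hWord r (ε t)) := by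
    intro r t hr
    have hneg : chevG2.neg r < chevG2.nroots := of_decide_eq_true (all_range neg_lt (hn ▸ hr))
    rw [ChevalleyDatum.stH, lift_stWord ε _ ?_]
    · simp [wmap, ChevalleyDatum.hWord, ChevalleyDatum.nWord, map_inv₀]
    · simp [ChevalleyDatum.hWord, ChevalleyDatum.nWord, hr, hneg]
  rintro g ((⟨r, t, u, hr, rfl⟩ | ⟨r, s, t, u, hr, hs, h1, h2, rfl⟩) | ⟨r, t, u, hr, ht, hu, rfl⟩)
  · rw [map_mul, map_mul, map_inv, hX r t hr, hX r u hr, hX r _ hr, mul_inv_eq_one, map_add]
    have h := List.all_eq_true.1 (List.all_eq_true.1 (all_range check1 (hn ▸ hr)) (ε t) (mem_els _)) (ε u) (mem_els _)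
    simpa using prod_eq_of_agree h
  · rw [map_mul, map_mul, map_mul, map_mul, map_inv, map_inv, map_inv, hX r t hr, hX s u hs,
      lift_stWord ε _ ?_, gen_inv, gen_inv, mul_inv_eq_one]
    · have h := all_range (all_range check2 (hn ▸ hr)) (hn ▸ hs)
      simp only [Bool.or_eq_true, decide_eq_true_iff] at h
      have h3 := List.all_eq_true.1 (List.all_eq_true.1 ((h.resolve_left fun h' => h'.elim h1 h2)) (ε t) (mem_els _)) (ε u) (mem_els _)
      have e := prod_eq_of_agree h3
      have ew : wmap ε (chevG2.commWord F r s t u) = chevG2.commWord K4 r s (ε t) (ε u) := by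
        simp [wmap, ChevalleyDatum.commWord, List.map_map, Function.comp_def]
      rw [ew]
      simpa [wordAut, mul_assoc] using e
    · intro p hp
      simp only [ChevalleyDatum.commWord, List.mem_map] at hp
      obtain ⟨c, hc, rfl⟩ := hp
      exact of_decide_eq_true (List.all_eq_true.1 (all_range (all_range comm_lt (hn ▸ hr)) (hn ▸ hs)) c hc)
  · rw [map_mul, map_mul, map_inv, hH r t hr, hH r u hr, hH r _ hr, mul_inv_eq_one, map_mul]
    have hne : ∀ {x : F}, x ≠ 0 → ε x ∈ [K4.i, K4.w, K4.v] := by
      intro x hx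
      have hx' : ε x ≠ 0 := (map_ne_zero_iff ε ε.injective).2 hx
      cases hε : ε x <;> simp
      exact hx' hε
    have h := List.all_eq_true.1 (List.all_eq_true.1 (all_range check3 (hn ▸ hr)) (ε t) (hne ht)) (ε u) (hne hu)
    have e := prod_eq_of_agree h
    rwa [List.map_append, List.prod_append] at e

/-- The representation of the presented group. -/
def rep : chevG2.SteinbergGroup F →* MulAut (Multiplicative V) :=
  PresentedGroup.toGroup (rels ε)

theorem rep_gen {r : ℕ} (hr : r < chevG2.nroots) (t : F) : rep ε (chevG2.stGen F r t) = gen r (ε t) := by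
  simp [rep, ChevalleyDatum.stGen, ChevalleyDatum.stX, hr]
  rfl

theorem gen_one (r : ℕ) (hr : 12 ≤ r) (t : K4) : gen r t = 1 := by
  refine MulEquiv.ext fun x => ?_
  obtain ⟨a, b, c, d, e, f⟩ := x
  rcases r with _|_|_|_|_|_|_|_|_|_|_|_|_ <;> first | omega | rfl

theorem exists_rep (l : List (ℕ × K4)) : ∃ g, rep ε g = wordAut l := by
  induction l with
  | nil => exact ⟨1, map_one _⟩
  | cons p l ih =>
    obtain ⟨g, hg⟩ := ih
    by_cases hp : p.1 < chevG2.nroots
    · refine ⟨chevG2.stGen F p.1 (ε.symm p.2) * g, ?_⟩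
      simp [rep_gen ε hp, hg, wordAut]
    · refine ⟨g, ?_⟩
      simp [hg, wordAut, gen_one p.1 (not_lt.1 hp)]

theorem exists_eq_top {x : Multiplicative V} (hx : x ≠ 1) :
    ∃ g, rep ε g x = Multiplicative.ofAdd top := by
  obtain ⟨g, hg⟩ := exists_rep ε (toTop x.toAdd)
  refine ⟨g, ?_⟩
  rw [hg, wordAut, ← ofAdd_toAdd x, prod_gen]
  exact congrArg Multiplicative.ofAdd (run_toTop fun h => hx (toAdd_eq_zero.1 h))

theorem card_V : Nat.card (Multiplicative V) = 4096 := by
  simp [Nat.card_eq_fintype_card, Fintype.card_prod, K4.card_eq]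

/-- An element fixing a nonzero vector has no other prime order than `2`, `3`, `5`. -/
theorem prime_of_fix [Finite (chevG2.SteinbergGroup F)] (hcard : Nat.card (chevG2.SteinbergGroup F) = 4 ^ 6 * 15 * 4095)
    {g : chevG2.SteinbergGroup F} {x : Multiplicative V} (hx : x ≠ 1) (hg : rep ε g x = x)
    (hp : (orderOf g).Prime) : orderOf g = 2 ∨ orderOf g = 3 ∨ orderOf g = 5 := by
  letI := MulAction.compHom (Multiplicative V) (rep ε)
  set T := MulAction.stabilizer (chevG2.SteinbergGroup F) (Multiplicative.ofAdd top : Multiplicative V) with hT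
  have horb : MulAction.orbit (chevG2.SteinbergGroup F) (Multiplicative.ofAdd top : Multiplicative V) =
      ({1}ᶜ : Set (Multiplicative V)) := by
    ext y
    constructor
    · rintro ⟨h, rfl⟩ he
      have h1 : rep ε h (Multiplicative.ofAdd top) = 1 := he
      exact absurd ((rep ε h).injective (h1.trans (map_one _).symm)) (by decide)
    · intro hy
      obtain ⟨h, hh⟩ := exists_eq_top ε hy
      refine ⟨h⁻¹, ?_⟩
      show rep ε h⁻¹ (Multiplicative.ofAdd top) = y
      rw [map_inv, ← hh, MulAut.inv_apply_self]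
  have hidx : T.index = 4095 := by
    rw [hT, MulAction.index_stabilizer, horb, Set.ncard_compl, Set.ncard_singleton, card_V]
  have hTc : Nat.card T = 4 ^ 6 * 15 := by
    have := T.card_mul_index
    rw [hidx, hcard] at this
    exact Nat.eq_of_mul_eq_mul_right (by norm_num) this
  obtain ⟨h, hh⟩ := exists_eq_top ε hx
  have hmem : h * g * h⁻¹ ∈ T := by
    rw [hT, MulAction.mem_stabilizer_iff]
    show rep ε (h * g * h⁻¹) (Multiplicative.ofAdd top) = Multiplicative.ofAdd top
    rw [map_mul, map_mul, map_inv, MulAut.mul_apply, MulAut.mul_apply, ← hh, MulAut.inv_apply_self, hg]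
  have hd : orderOf g ∣ 4 ^ 6 * 15 := by
    have h1 : orderOf (⟨_, hmem⟩ : T) ∣ Nat.card T := orderOf_dvd_natCard _
    rw [← Subgroup.orderOf_coe, hTc] at h1
    have h2 : orderOf (h * g * h⁻¹) = orderOf g := (MulAut.conj h).orderOf_eq g
    rwa [h2] at h1
  rcases (Nat.Prime.dvd_mul hp).1 hd with h2 | h15
  · exact Or.inl ((Nat.prime_dvd_prime_iff_eq hp Nat.prime_two).1 (hp.dvd_of_dvd_pow
      (show orderOf g ∣ 2 ^ 12 by simpa using h2)))
  · rcases (Nat.Prime.dvd_mul hp).1 (show orderOf g ∣ 3 * 5 from h15) with h3 | h5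
    · exact Or.inr (Or.inl ((Nat.prime_dvd_prime_iff_eq hp Nat.prime_three).1 h3))
    · exact Or.inr (Or.inr ((Nat.prime_dvd_prime_iff_eq hp Nat.prime_five).1 h5))

theorem check_order : (agree (List.replicate 3 [(6, K4.i), (5, K4.i)]).flatten [] &&
    agree (List.replicate 5 [(6, K4.w), (5, K4.i)]).flatten [] &&
    !agree [(6, K4.i), (5, K4.i)] [] && !agree [(6, K4.w), (5, K4.i)] [] && !agree [(9, K4.i)] []) = true := by
  decide +kernel

theorem not_agree_ne {l : List (ℕ × K4)} (h : agree l [] = false) : wordAut l ≠ 1 := by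
  intro e
  have : ∀ x ∈ single, run l x = x := fun x _ => by
    have h1 : wordAut l (Multiplicative.ofAdd x) = Multiplicative.ofAdd x := by rw [e]; rfl
    rw [wordAut, prod_gen] at h1
    exact Multiplicative.ofAdd.injective h1
  rw [agree, List.all_eq_false] at h
  obtain ⟨x, hx, hne⟩ := h
  exact hne (decide_eq_true ((this x hx).trans rfl))

include ε in
theorem exists_two_mul [Finite (chevG2.SteinbergGroup F)] {r : ℕ} (hr : r = 3 ∨ r = 5) :
    ∃ g : chevG2.SteinbergGroup F, orderOf g = 2 * r := by
  have hn : chevG2.nroots = 12 := rfl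
  set X := fun i t => chevG2.stGen F i t with hX
  have hadd : ∀ i t u, i < 12 → X i t * X i u = X i (t + u) := by
    intro i t u hi
    refine mul_inv_eq_one.1 ?_
    simp only [hX, ChevalleyDatum.stGen, ← map_inv, ← map_mul]
    exact PresentedGroup.one_of_mem (Or.inl (Or.inl ⟨i, t, u, hn ▸ hi, rfl⟩))
  have hcom : ∀ i, i = 5 ∨ i = 6 → ∀ t u, Commute (X 9 u) (X i t) := by
    intro i hi t u
    have h : (X 9 u)⁻¹ * (X i t)⁻¹ * X 9 u * X i t = 1 := by
      refine (mul_one _).symm.trans ?_
      have hnil : chevG2.commWord F i 9 t u = [] := by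
        rcases hi with rfl | rfl <;>
          simp [ChevalleyDatum.commWord, show chevG2.commTerms 5 9 = [] by decide +kernel,
            show chevG2.commTerms 6 9 = [] by decide +kernel]
      simp only [hX, ChevalleyDatum.stGen, ← map_inv, ← map_mul, ← map_one (PresentedGroup.mk (chevG2.steinbergRels F))]
      refine PresentedGroup.one_of_mem (Or.inl (Or.inr ⟨i, 9, t, u, ?_, ?_, ?_, ?_, ?_⟩))
      · rcases hi with rfl | rfl <;> decide
      · decide
      · rcases hi with rfl | rfl <;> decide
      · rcases hi with rfl | rfl <;> decide +kernel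
      · rw [hnil]; simp [ChevalleyDatum.stWord]
    calc X 9 u * X i t = X i t * X 9 u * ((X 9 u)⁻¹ * (X i t)⁻¹ * X 9 u * X i t) := by group
      _ = X i t * X 9 u := by rw [h, mul_one]
  obtain ⟨s, hs, hs'⟩ : ∃ s : K4, agree (List.replicate r [(6, s), (5, K4.i)]).flatten [] = true ∧
      agree [(6, s), (5, K4.i)] [] = false := by
    have h := check_order
    simp only [Bool.and_eq_true, Bool.not_eq_true'] at h
    rcases hr with rfl | rfl
    · exact ⟨_, h.1.1.1.1, h.1.1.2⟩
    · exact ⟨_, h.1.1.1.2, h.1.2⟩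
  set z := X 9 (ε.symm 1) with hz
  set g := X 6 (ε.symm s) * X 5 (ε.symm 1) with hg
  have hrg : rep ε g = wordAut [(6, s), (5, K4.i)] := by
    simp only [hg, hX, map_mul, rep_gen ε (show 6 < chevG2.nroots by decide),
      rep_gen ε (show 5 < chevG2.nroots by decide), RingEquiv.apply_symm_apply]
    simp [wordAut]
    rfl
  haveI hrp : Fact r.Prime := ⟨by rcases hr with rfl | rfl <;> norm_num⟩
  have hord : orderOf (rep ε g) = r := by
    refine orderOf_eq_prime ?_ (hrg ▸ not_agree_ne hs')
    rw [hrg]
    have e : ∀ k, wordAut ([(6, s), (5, K4.i)]) ^ k = wordAut (List.replicate k [(6, s), (5, K4.i)]).flatten := by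
      intro k
      induction k with
      | zero => rfl
      | succ k ih =>
        rw [pow_succ', ih, List.replicate_succ, List.flatten_cons]
        simp [wordAut, mul_assoc]
    rw [e r]
    exact prod_eq_of_agree hs
  have hdvd : r ∣ orderOf g := hord ▸ orderOf_map_dvd (rep ε) g
  set y := g ^ (orderOf g / r) with hy
  have hy' : orderOf y = r := orderOf_pow_orderOf_div (orderOf_pos g).ne' hdvd
  have hzy : Commute z y := ((hcom 6 (Or.inr rfl) _ _).mul_right (hcom 5 (Or.inl rfl) _ _)).pow_right _
  have hz2 : orderOf z = 2 := by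
    refine orderOf_eq_prime ?_ fun e => ?_
    · rw [pow_two, hz, hadd 9 _ _ (by norm_num)]
      have h0 : X 9 (0 : F) = 1 := by
        have h := hadd 9 0 0 (by norm_num)
        rw [add_zero] at h
        exact mul_eq_left.1 h
      rw [← h0]
      congr 1
      apply ε.injective
      rw [map_add, map_zero, RingEquiv.apply_symm_apply, K4.add_self]
    · have h1 := congrArg (rep ε) e
      rw [map_one, hz] at h1
      simp only [hX, rep_gen ε (show 9 < chevG2.nroots by decide), RingEquiv.apply_symm_apply] at h1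
      have h2 := check_order
      simp only [Bool.and_eq_true, Bool.not_eq_true'] at h2
      exact not_agree_ne h2.2 (by simp [wordAut]; exact h1)
  refine ⟨z * y, ?_⟩
  rw [hzy.orderOf_mul_eq_mul_orderOf_of_coprime (by
    rw [hz2, hy']; rcases hr with rfl | rfl <;> norm_num), hz2, hy']

/-- The product of `N` copies of the module. -/
abbrev Pow (N : ℕ) := Fin N → Multiplicative V

/-- The action on the power. -/
def powRep (N : ℕ) : chevG2.SteinbergGroup F →* MulAut (Pow N) where
  toFun g := MulEquiv.piCongrRight fun _ => rep ε g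
  map_one' := by ext f i : 3; simp
  map_mul' g h := by ext f i : 3; simp

end Cfsg.Agent.H90.G2Four
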