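import Cfsg.Agent.H90.G2Four.ExtRel13
import Cfsg.Agent.H90.G2Four.ExtRel2A
import Cfsg.Agent.H90.G2Four.ExtRel2B
import Cfsg.Agent.H90.G2Four.ExtRel2C
import Cfsg.Agent.H90.G2Four.ExtRel2D
import Cfsg.Agent.H90.G2Four.Witness

/-!
The action of the presented group of type `G₂` over the field of four elements on the 416 cosets.
-/

set_option autoImplicit false

namespace Cfsg.Agent.H90.G2Four.Ext

open Cfsg.Agent.Compute Cfsg.Lie

attribute [local irreducible] getP packP agreeN runN code idCode den okCode

theorem code_ok (p : ℕ × K4) : PermOK 9 416 (code p) ∧ (den (code p))⁻¹ = den (code p) := by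
  obtain ⟨r, t⟩ := p
  by_cases hr : r < 12
  · exact okCode_spec (List.all_eq_true.1 (all_range check_ok hr) t (mem_els t))
  · have e : code (r, t) = idCode := by
      unfold code
      rcases r with _|_|_|_|_|_|_|_|_|_|_|_|_ <;> first | omega | rfl
    rw [e]; exact okCode_spec check_idCode

theorem map_code_ok (l : List (ℕ × K4)) : ∀ a ∈ l.map code, PermOK 9 416 a := by
  intro a ha
  obtain ⟨p, -, rfl⟩ := List.mem_map.1 ha
  exact (code_ok p).1

theorem comm_pos : ((List.range 12).all fun r => (List.range 12).all fun s =>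
    (chevG2.commTerms r s).all fun c => decide (0 < c.2.2.1) && decide (0 < c.2.2.2)) = true := by
  decide +kernel

/-- The permutation of a root element. -/
noncomputable def perm (r : ℕ) (t : K4) : Equiv.Perm (Fin 416) := den (code (r, t))

/-- The permutation of a word. -/
noncomputable def wordPerm (l : List (ℕ × K4)) : Equiv.Perm (Fin 416) := ((l.map code).map den).prod

theorem wordPerm_cons (p : ℕ × K4) (l : List (ℕ × K4)) :
    wordPerm (p :: l) = perm p.1 p.2 * wordPerm l := by
  simp [wordPerm, perm]

theorem wordPerm_append (l m : List (ℕ × K4)) : wordPerm (l ++ m) = wordPerm l * wordPerm m := by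
  simp [wordPerm, List.map_append, List.prod_append]

theorem wordPerm_eq_of_agree {l m : List (ℕ × K4)} (h : agreeN (l.map code) (m.map code) = true) :
    wordPerm l = wordPerm m :=
  prod_eq_of_agreeN (map_code_ok l) (map_code_ok m) h

theorem den_idCode : den idCode = 1 := by
  have h := prod_eq_of_agreeN (l := [idCode]) (m := [])
    (fun a ha => by rw [List.mem_singleton.1 ha]; exact (okCode_spec check_idCode).1)
    (fun a ha => absurd ha List.not_mem_nil) check_zero
  simpa using h

theorem perm_zero (r : ℕ) : perm r K4.o = 1 := by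
  have e : code (r, K4.o) = idCode := by
    unfold code
    rcases r with _|_|_|_|_|_|_|_|_|_|_|_|_ <;> rfl
  rw [perm, e, den_idCode]

theorem mem_units3 {t : K4} (ht : t ≠ K4.o) : t ∈ units3 := by
  cases t <;> simp [units3]
  exact ht rfl

theorem perm_inv (r : ℕ) (t : K4) : (perm r t)⁻¹ = perm r t := (code_ok (r, t)).2

theorem rel1_perm {r : ℕ} (hr : r < 12) (t u : K4) : perm r t * perm r u = perm r (t + u) := by
  by_cases ht : t = K4.o
  · subst ht; rw [perm_zero, one_mul]; exact congrArg _ (zero_add u).symm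
  by_cases hu : u = K4.o
  · subst hu; rw [perm_zero, mul_one]; exact congrArg _ (add_zero t).symm
  have h : agreeN ([(r, t), (r, u)].map code) ([(r, t + u)].map code) = true :=
    List.all_eq_true.1 (List.all_eq_true.1 (all_range check_rel1 hr) t (mem_units3 ht)) u (mem_units3 hu)
  simpa [wordPerm, perm] using wordPerm_eq_of_agree h

theorem all_rel2 {r s : ℕ} (hr : r < 12) (hs : s < 12) : rel2 r s = true := by
  rcases lt_or_ge r 3 with h | h
  · exact all_range (List.all_eq_true.1 check_rel2A r (List.mem_range'_1.2 ⟨by omega, by omega⟩)) hs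
  rcases lt_or_ge r 6 with h' | h'
  · exact all_range (List.all_eq_true.1 check_rel2B r (List.mem_range'_1.2 ⟨by omega, by omega⟩)) hs
  rcases lt_or_ge r 9 with h'' | h''
  · exact all_range (List.all_eq_true.1 check_rel2C r (List.mem_range'_1.2 ⟨by omega, by omega⟩)) hs
  · exact all_range (List.all_eq_true.1 check_rel2D r (List.mem_range'_1.2 ⟨by omega, by omega⟩)) hs

theorem rel2_perm {r s : ℕ} (hr : r < 12) (hs : s < 12) (h1 : s ≠ r) (h2 : s ≠ chevG2.neg r) (t u : K4) :
    perm s u * perm r t * perm s u * perm r t = wordPerm (chevG2.commWord K4 r s t u) := by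
  by_cases hz : t = K4.o ∨ u = K4.o
  · have hl : ∀ p ∈ chevG2.commWord K4 r s t u, p.2 = K4.o := by
      intro p hp
      simp only [ChevalleyDatum.commWord, List.mem_map] at hp
      obtain ⟨c, hc, rfl⟩ := hp
      have hpos := List.all_eq_true.1 (all_range (all_range comm_pos hr) hs) c hc
      simp only [Bool.and_eq_true, decide_eq_true_iff] at hpos
      rcases hz with rfl | rfl
      · show _ = (0 : K4)
        rw [show -(K4.o) = (0 : K4) from rfl, zero_pow hpos.1.ne']; simp
      · show _ = (0 : K4)
        rw [show (K4.o : K4) = 0 from rfl, zero_pow hpos.2.ne']; simp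
    have e : wordPerm (chevG2.commWord K4 r s t u) = 1 := by
      refine List.prod_eq_one fun x hx => ?_
      simp only [List.map_map, List.mem_map] at hx
      obtain ⟨p, hp, rfl⟩ := hx
      show perm p.1 p.2 = 1
      rw [hl p hp, perm_zero]
    rw [e]
    rcases hz with rfl | rfl
    · rw [perm_zero, mul_one, mul_one, ← perm_inv s u]
      simp [perm_inv]
      exact mul_eq_one_iff_eq_inv.2 (perm_inv s u).symm
    · rw [perm_zero, one_mul, mul_one]
      exact mul_eq_one_iff_eq_inv.2 (perm_inv r t).symm
  push Not at hz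
  have h := all_rel2 hr hs
  simp only [rel2, Bool.or_eq_true, decide_eq_true_iff] at h
  have h3 := List.all_eq_true.1 (List.all_eq_true.1 (h.resolve_left fun h' => h'.elim h1 h2) t (mem_units3 hz.1))
    u (mem_units3 hz.2)
  have e := wordPerm_eq_of_agree (l := [(s, u), (r, t), (s, u), (r, t)]) h3
  simpa [wordPerm, perm, mul_assoc] using e

variable {F : Type*} [Field F] (ε : F ≃+* K4)

theorem lift_word (l : List (ℕ × F)) (hl : ∀ p ∈ l, p.1 < chevG2.nroots) :
    FreeGroup.lift (fun p : Fin chevG2.nroots × F => perm p.1 (ε p.2)) (chevG2.stWord l) =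
      wordPerm (wmap ε l) := by
  induction l with
  | nil => simp [ChevalleyDatum.stWord, wordPerm, wmap]
  | cons p l ih =>
    have hp : p.1 < chevG2.nroots := hl p List.mem_cons_self
    simp only [ChevalleyDatum.stWord, List.map_cons, List.prod_cons, map_mul] at ih ⊢
    rw [ih fun q hq => hl q (List.mem_cons_of_mem _ hq)]
    simp [ChevalleyDatum.stX, hp, wordPerm, perm, wmap]

theorem permRels : ∀ g ∈ chevG2.steinbergRels F,
    FreeGroup.lift (fun p : Fin chevG2.nroots × F => perm p.1 (ε p.2)) g = 1 := by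
  have hn : chevG2.nroots = 12 := rfl
  have hX : ∀ r t, r < chevG2.nroots → FreeGroup.lift (fun p : Fin chevG2.nroots × F => perm p.1 (ε p.2))
      (chevG2.stX r t) = perm r (ε t) := fun r t hr => by simp [ChevalleyDatum.stX, hr]
  have hH : ∀ r t, r < chevG2.nroots → FreeGroup.lift (fun p : Fin chevG2.nroots × F => perm p.1 (ε p.2))
      (chevG2.stH r t) = wordPerm (chevG2.hWord r (ε t)) := by
    intro r t hr
    have hneg : chevG2.neg r < chevG2.nroots := of_decide_eq_true (all_range neg_lt (hn ▸ hr))
    rw [ChevalleyDatum.stH, lift_word ε _ ?_]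
    · simp [wmap, ChevalleyDatum.hWord, ChevalleyDatum.nWord, map_inv₀]
    · simp [ChevalleyDatum.hWord, ChevalleyDatum.nWord, hr, hneg]
  rintro g ((⟨r, t, u, hr, rfl⟩ | ⟨r, s, t, u, hr, hs, h1, h2, rfl⟩) | ⟨r, t, u, hr, ht, hu, rfl⟩)
  · rw [map_mul, map_mul, map_inv, hX r t hr, hX r u hr, hX r _ hr, mul_inv_eq_one, map_add]
    exact rel1_perm (hn ▸ hr) _ _
  · rw [map_mul, map_mul, map_mul, map_mul, map_inv, map_inv, map_inv, hX r t hr, hX s u hs,
      lift_word ε _ ?_, perm_inv, perm_inv, mul_inv_eq_one]
    · have ew : wmap ε (chevG2.commWord F r s t u) = chevG2.commWord K4 r s (ε t) (ε u) := by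
        simp [wmap, ChevalleyDatum.commWord, List.map_map, Function.comp_def]
      rw [ew]
      exact rel2_perm (hn ▸ hr) (hn ▸ hs) h1 h2 _ _
    · intro p hp
      simp only [ChevalleyDatum.commWord, List.mem_map] at hp
      obtain ⟨c, hc, rfl⟩ := hp
      exact of_decide_eq_true (List.all_eq_true.1 (all_range (all_range comm_lt (hn ▸ hr)) (hn ▸ hs)) c hc)
  · rw [map_mul, map_mul, map_inv, hH r t hr, hH r u hr, hH r _ hr, mul_inv_eq_one, map_mul, ← wordPerm_append]
    have hne : ∀ {x : F}, x ≠ 0 → ε x ≠ K4.o := fun {x} hx => (map_ne_zero_iff ε ε.injective).2 hx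
    exact wordPerm_eq_of_agree (List.all_eq_true.1 (List.all_eq_true.1 (all_range check_rel3 (hn ▸ hr)) _
      (mem_units3 (hne ht))) _ (mem_units3 (hne hu)))

/-- The action on the cosets. -/
noncomputable def extRep : chevG2.SteinbergGroup F →* Equiv.Perm (Fin 416) :=
  PresentedGroup.toGroup (permRels ε)

theorem extRep_gen {r : ℕ} (hr : r < chevG2.nroots) (t : F) : extRep ε (chevG2.stGen F r t) = perm r (ε t) := by
  simp [extRep, ChevalleyDatum.stGen, ChevalleyDatum.stX, hr]
  rfl

theorem exists_extRep (l : List (ℕ × K4)) : ∃ g, extRep ε g = wordPerm l := by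
  induction l with
  | nil => exact ⟨1, map_one _⟩
  | cons p l ih =>
    obtain ⟨g, hg⟩ := ih
    rw [wordPerm_cons]
    by_cases hp : p.1 < chevG2.nroots
    · exact ⟨chevG2.stGen F p.1 (ε.symm p.2) * g, by simp [extRep_gen ε hp, hg]⟩
    · refine ⟨g, ?_⟩
      have e : code p = idCode := by
        obtain ⟨r, t⟩ := p
        have hr : 12 ≤ r := not_lt.1 hp
        unfold code
        rcases r with _|_|_|_|_|_|_|_|_|_|_|_|_ <;> first | omega | rfl
      rw [perm, Prod.mk.eta, e, den_idCode, one_mul, hg]

end Cfsg.Agent.H90.G2Four.Ext
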