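import Cfsg.Agent.H90.G2Four.ExtData
import Cfsg.Agent.Compute.PermRep

/-!
Packed permutations of the 416 cosets: evaluation of words and its meaning.
-/

set_option autoImplicit false

namespace Cfsg.Agent.H90.G2Four.Ext

open Cfsg.Agent.Compute Cfsg.Lie

/-- Image of a point under a product of codes. -/
noncomputable def runN (l : List ℕ) (i : ℕ) : ℕ := List.rec i (fun a _ ih => getP 9 a ih) l

/-- Whether two products agree on all points. -/
noncomputable def agreeN (l m : List ℕ) : Bool := allN 416 fun i => Nat.beq (runN l i) (runN m i)

/-- Whether a code is a permutation which is its own inverse. -/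
noncomputable def okCode (a : ℕ) : Bool := (permOps 9 416).okInv a a

/-- The permutation of a code. -/
noncomputable def den (a : ℕ) : Equiv.Perm (Fin 416) := permDen 9 416 a

/-- Soundness for 416 points. -/
noncomputable def extSound : Sound (G := Equiv.Perm (Fin 416)) (permOps 9 416) :=
  permSound 9 416 (by norm_num)

attribute [local irreducible] packP getP onePerm mulPerm validPerm invPerm permDen permFun

theorem okCode_spec {a : ℕ} (h : okCode a = true) : PermOK 9 416 a ∧ (den a)⁻¹ = den a := by
  obtain ⟨h1, -, h3⟩ := extSound.okInv_sound h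
  exact ⟨h1, h3.symm⟩

theorem runN_spec : ∀ (l : List ℕ), (∀ a ∈ l, PermOK 9 416 a) → ∀ i : Fin 416,
    runN l i = ((l.map den).prod i : ℕ) := by
  intro l
  induction l with
  | nil => intro _ i; rfl
  | cons a l ih =>
    intro h i
    have e : runN (a :: l) i = getP 9 a (runN l i) := rfl
    rw [e, ih (fun b hb => h b (List.mem_cons_of_mem _ hb)) i, List.map_cons, List.prod_cons,
      Equiv.Perm.mul_apply]
    exact (permDen_apply (h a List.mem_cons_self) _).symm

theorem prod_eq_of_agreeN {l m : List ℕ} (hl : ∀ a ∈ l, PermOK 9 416 a)
    (hm : ∀ a ∈ m, PermOK 9 416 a) (h : agreeN l m = true) :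
    (l.map den).prod = (m.map den).prod := by
  refine Equiv.ext fun i => Fin.ext ?_
  have e := Nat.eq_of_beq_eq_true ((allN_iff _ _).1 h i i.2)
  rwa [runN_spec l hl i, runN_spec m hm i] at e

/-- The nonzero scalars. -/
def units3 : List K4 := [K4.i, K4.w, K4.v]

/-- The first relation for one root. -/
noncomputable def rel1 (r : ℕ) : Bool :=
  units3.all fun t => units3.all fun u => agreeN [code (r, t), code (r, u)] [code (r, t + u)]

/-- The second relation for two roots. -/
noncomputable def rel2 (r s : ℕ) : Bool :=
  decide (s = r) || decide (s = chevG2.neg r) ||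
    units3.all fun t => units3.all fun u =>
      agreeN [code (s, u), code (r, t), code (s, u), code (r, t)]
        ((chevG2.commWord K4 r s t u).map code)

/-- The third relation for one root. -/
noncomputable def rel3 (r : ℕ) : Bool :=
  units3.all fun t => units3.all fun u =>
    agreeN ((chevG2.hWord r t ++ chevG2.hWord r u).map code) ((chevG2.hWord r (t * u)).map code)

end Cfsg.Agent.H90.G2Four.Ext
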