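import Cfsg.Agent.H90.G2Four.ExtPerm

/-!
The codes are involutions; the first and third relations hold on the 416 cosets.
-/

set_option autoImplicit false
set_option Elab.async false

namespace Cfsg.Agent.H90.G2Four.Ext

theorem check_ok : ((List.range 12).all fun r => [K4.o, K4.i, K4.w, K4.v].all fun t => okCode (code (r, t))) = true := by
  decide +kernel

theorem check_idCode : okCode idCode = true := by decide +kernel

theorem check_zero : agreeN [idCode] [] = true := by decide +kernel

theorem check_rel1 : (List.range 12).all rel1 = true := by decide +kernel

theorem check_rel3 : (List.range 12).all rel3 = true := by decide +kernel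

end Cfsg.Agent.H90.G2Four.Ext
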