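import Cfsg.Agent.H90.G2Four.ExtPerm
import Cfsg.Agent.Compute.J2.GroupDefs

/-!
Kernel checks of the orbit tables on the 416 cosets and of the numbering of the suborbit of length 100.
-/

set_option autoImplicit false
set_option Elab.async false

namespace Cfsg.Agent.H90.G2Four.Ext

open Cfsg.Agent.Compute

/-- A label read from a table. -/
noncomputable def labF (k tab i : ℕ) : Fin (k + 1) := Fin.ofNat (k + 1) (getP 3 tab i)

/-- The orbit selected by a main label. -/
noncomputable def inOrb (c i : ℕ) : Bool := Nat.beq (getP 3 labMain i) c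

/-- A word in the four involutions, as codes. -/
noncomputable def stabWord (l : List ℕ) : List ℕ := l.map (nth idCode stabCodes)

/-- Every selected point is reached from the root of its label. -/
noncomputable def pathOK (k : ℕ) (O : ℕ → Bool) (tab : ℕ) (roots : List ℕ)
    (gens : List (List ℕ)) (paths : List (List ℕ)) : Bool :=
  allN 416 fun i => !O i ||
    Nat.beq (runN (((nth [] paths i).map (nth [] gens)).flatMap stabWord) (nth 0 roots (labF k tab i))) i

/-- The four involutions as one-letter words. -/
def singles : List (List ℕ) := [[0], [1], [2], [3]]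

theorem check_id : okCode idCode = true := by decide +kernel

theorem check_id_agree : agreeN [idCode] [] = true := by decide +kernel

theorem check_stab : ((List.zip stabCodes stabWords).all fun a => okCode a.1 &&
    agreeN [a.1] (a.2.map code) && Nat.beq (runN [a.1] 0) 0) = true := by decide +kernel

theorem stab_length : stabCodes.length = 4 ∧ stabWords.length = 4 := by decide +kernel

theorem check_quo : ((List.zip stabCodes J2.quoPrim).all fun a => J2.quoOps.okInv a.2 a.2 &&
    allN 100 fun i => Nat.beq (getP 9 a.1 (getP 9 embCode i)) (getP 9 embCode (getP 7 a.2 i))) = true := by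
  decide +kernel

theorem quoPrim_length : J2.quoPrim.length = 4 := by decide +kernel

theorem check_labMain : (stabCodes.all fun a =>
    allN 416 fun i => Nat.beq (getP 3 labMain (getP 9 a i)) (getP 3 labMain i)) = true := by decide +kernel

theorem check_trans : allN 416 (fun i =>
    Nat.beq (runN ((nth [] transWords i).map code) 0) i) = true := by decide +kernel

theorem check_emb : (allN 100 fun i => inOrb 2 (getP 9 embCode i) && Nat.ble (getP 9 embCode i + 1) 416 &&
      Nat.beq (getP 9 embInvCode (getP 9 embCode i)) i) &&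
    (allN 416 fun p => !inOrb 2 p ||
      (Nat.ble (getP 9 embInvCode p + 1) 100 && Nat.beq (getP 9 embCode (getP 9 embInvCode p)) p)) = true := by
  decide +kernel

theorem check_pathMain : pathOK 2 (fun _ => true) labMain rootsMain singles pathsMain = true := by
  decide +kernel

theorem check_pathMid : pathOK 5 (inOrb 1) labMid rootsMid subMidWords pathsMid = true := by
  decide +kernel

theorem check_pathSmall : pathOK 2 (inOrb 2) labSmall rootsSmall subSmallWords pathsSmall = true := by
  decide +kernel

theorem check_subMid : (subMidWords.all fun l => Nat.beq (runN (stabWord l) (nth 0 rootsMid 0)) (nth 0 rootsMid 0)) = true := by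
  decide +kernel

theorem check_subSmall : (subSmallWords.all fun l => Nat.beq (runN (stabWord l) (nth 0 rootsSmall 0)) (nth 0 rootsSmall 0)) = true := by
  decide +kernel

theorem count_main : ∀ j : Fin 3, (Finset.univ.filter fun i : Fin 416 => (fun _ => true) (i : ℕ) = true ∧
    labF 2 labMain i = j).card = ![1, 315, 100] j := by
  decide +kernel

theorem count_mid : ∀ j : Fin 6, (Finset.univ.filter fun i : Fin 416 => inOrb 1 i = true ∧
    labF 5 labMid i = j).card = ![1, 10, 32, 32, 80, 160] j := by
  decide +kernel

theorem count_small : ∀ j : Fin 3, (Finset.univ.filter fun i : Fin 416 => inOrb 2 i = true ∧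
    labF 2 labSmall i = j).card = ![1, 36, 63] j := by
  decide +kernel

theorem union_main : ∀ S : Finset (Fin 3), 0 ∈ S → (∑ i ∈ S, ![1, 315, 100] i) ∣ ∑ i, ![1, 315, 100] i →
    S = {0} ∨ S = Finset.univ := by
  decide +kernel

theorem union_mid : ∀ S : Finset (Fin 6), 0 ∈ S →
    (∑ i ∈ S, ![1, 10, 32, 32, 80, 160] i) ∣ ∑ i, ![1, 10, 32, 32, 80, 160] i →
    S = {0} ∨ S = Finset.univ := by
  decide +kernel

theorem union_small : ∀ S : Finset (Fin 3), 0 ∈ S → (∑ i ∈ S, ![1, 36, 63] i) ∣ ∑ i, ![1, 36, 63] i →
    S = {0} ∨ S = Finset.univ := by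
  decide +kernel

theorem root_labels : labF 2 labMain 0 = 0 ∧ nth 0 rootsMain 0 = 0 ∧
    nth 0 rootsMain 1 = nth 0 rootsMid 0 ∧ nth 0 rootsMain 2 = nth 0 rootsSmall 0 ∧
    inOrb 1 (nth 0 rootsMid 0) = true ∧ inOrb 2 (nth 0 rootsSmall 0) = true ∧
    nth 0 rootsMid 0 < 416 ∧ nth 0 rootsSmall 0 < 416 ∧
    labF 5 labMid (nth 0 rootsMid 0) = 0 ∧ labF 2 labSmall (nth 0 rootsSmall 0) = 0 := by
  decide +kernel

theorem check_labRange : allN 416 (fun i => (inOrb 0 i && Nat.beq i 0) || inOrb 1 i || inOrb 2 i) = true := by
  decide +kernel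

theorem check_roots : ((rootsMain ++ rootsMid ++ rootsSmall).all fun r => Nat.ble (r + 1) 416) = true := by
  decide +kernel

end Cfsg.Agent.H90.G2Four.Ext
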